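import Cfsg.Agent.Spor.LyM.D0

set_option autoImplicit false
set_option maxRecDepth 100000000
set_option Elab.async false

namespace Cfsg.Agent.Spor.LyM

theorem sq : PA.sq A = true := by decide +kernel

theorem TTok : PA.gensOk A TT 5 = true := by decide +kernel

theorem r1 : PA.isW A TT [0, 0, 0, 0, 0, 0, 0, 0] A.one = true := by decide +kernel

theorem r2 : PA.isW A TT [2, 2, 2, 2, 2] A.one = true := by decide +kernel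

theorem r3 : PA.isW A TT [0, 2, 0, 2, 0, 2, 0, 2] A.one = true := by decide +kernel

theorem r4 : PA.isW A TT [1, 1, 3, 0, 0, 2] A.one = true := by decide +kernel

theorem r5 : PA.isW A TT [1, 3, 0, 2, 1, 3, 0, 2, 1, 3, 0, 2] A.one = true := by decide +kernel

theorem r6 : PA.isW A TT [4, 4, 4, 4, 4] A.one = true := by decide +kernel

theorem r7 : PA.isW A TT [5, 1, 5, 0, 4, 1, 4, 0, 5, 1, 5, 0, 4, 1, 4, 0, 5, 1, 5, 0, 4, 1, 4, 0, 5, 1, 5, 0, 4, 1, 4, 0, 5, 1, 5, 0, 4, 1, 4, 0] A.one = true := by decide +kernel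

theorem r8 : PA.isW A TT [5, 1, 5, 0, 5, 1, 4, 0, 4, 1, 5, 0, 4, 1, 4, 0] A.one = true := by decide +kernel

theorem r9 : PA.isW A TT [1, 5, 5, 0, 5, 1, 4, 0, 4, 1, 4, 0, 5, 1, 5, 0, 4, 1, 4, 0] A.one = true := by decide +kernel

theorem r10 : PA.isW A TT [3, 5, 2, 1, 5, 0, 5, 1, 4, 0, 4, 3, 4, 2, 5, 1, 5, 0, 4, 1, 4, 0] A.one = true := by decide +kernel

theorem r11 : PA.isW A TT [2, 5, 3, 1, 5, 0, 5, 1, 4, 0, 4, 2, 4, 3, 5, 1, 5, 0, 4, 1, 4, 0] A.one = true := by decide +kernel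

theorem r12 : PA.isW A TT [5, 3, 5, 2, 4, 3, 4, 2, 5, 1, 5, 0, 4, 1, 4, 0, 5, 1, 5, 0, 4, 1, 4, 0] A.one = true := by decide +kernel

theorem r13 : PA.isW A TT [5, 2, 5, 3, 4, 2, 4, 3, 1, 5, 0, 5, 1, 4, 0, 4, 1, 5, 0, 5, 1, 4, 0, 4] A.one = true := by decide +kernel

theorem r14 : PA.isW A TT [1, 5, 0, 3, 5, 2, 1, 4, 0, 3, 4, 2, 5, 1, 5, 0, 4, 1, 4, 0] A.one = true := by decide +kernel

theorem r15 : PA.isW A TT [1, 5, 0, 2, 5, 3, 1, 4, 0, 2, 4, 3] A.one = true := by decide +kernel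

theorem r16 : PA.isW A TT [3, 5, 2, 2, 5, 3, 3, 4, 2, 2, 4, 3, 5, 1, 5, 0, 4, 1, 4, 0] A.one = true := by decide +kernel

theorem r17 : PA.isW A TT [1, 1, 4, 0, 0, 4, 4] A.one = true := by decide +kernel

theorem r18 : PA.isW A TT [1, 3, 4, 2, 0, 2, 5, 3, 5, 3, 4, 4, 2] A.one = true := by decide +kernel

theorem r19 : PA.isW A TT [1, 2, 4, 3, 0, 2, 5, 3, 5, 2, 5, 3, 3, 4, 2, 1, 4, 0, 5] A.one = true := by decide +kernel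

theorem r20 : PA.isW A TT [1, 5, 1, 5, 0, 4, 1, 4, 0, 5, 0, 5, 1, 4, 0, 4, 1, 5, 0, 5, 1, 4, 0, 4] A.one = true := by decide +kernel

theorem r21 : PA.isW A TT [3, 1, 4, 0, 2, 2, 4, 3, 4, 2, 4, 3, 3, 5, 2, 1, 5, 0] A.one = true := by decide +kernel

theorem r22 : PA.isW A TT [3, 3, 4, 2, 4, 4, 2, 2, 5, 3, 5, 5] A.one = true := by decide +kernel

theorem r23 : PA.isW A TT [3, 5, 1, 5, 0, 4, 1, 4, 0, 2, 1, 5, 0, 5, 1, 4, 0, 4] A.one = true := by decide +kernel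

theorem r24 : PA.isW A TT [3, 3, 1, 5, 0, 4, 1, 4, 0, 6, 4, 2, 0, 3, 6, 4, 6, 3, 3, 1, 5, 0, 4, 1, 4, 0, 6, 4, 2, 0, 3, 6, 4, 6] A.one = true := by decide +kernel

theorem r25 : PA.isW A TT [7, 5, 7, 2, 1, 3, 5, 7, 1, 5, 0, 5, 1, 4, 0, 2, 2, 4, 3, 3, 1, 5, 0, 4, 1, 4, 0, 6, 4, 2, 0, 3, 6, 4, 6, 4, 3, 3, 5] A.one = true := by decide +kernel

theorem r26 : PA.isW A TT [7, 5, 7, 2, 1, 3, 5, 7, 1, 5, 0, 5, 1, 4, 0, 2, 4, 3, 1, 5, 0, 4, 1, 4, 0, 6, 4, 2, 0, 3, 6, 4, 6, 0, 2, 4, 3, 4, 1, 5, 3, 3] A.one = true := by decide +kernel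

theorem r27 : PA.isW A TT [7, 5, 7, 2, 1, 3, 5, 7, 1, 5, 0, 5, 1, 4, 0, 2, 2, 2, 4, 3, 3, 3, 1, 5, 0, 4, 1, 4, 0, 6, 4, 2, 0, 3, 6, 4, 6, 2, 5, 3, 3, 4, 3] A.one = true := by decide +kernel

theorem r28 : PA.isW A TT [7, 5, 7, 2, 1, 3, 5, 7, 1, 5, 0, 5, 1, 4, 0, 2, 2, 5, 1, 5, 0, 4, 1, 4, 0, 3, 3, 1, 5, 0, 4, 1, 4, 0, 6, 4, 2, 0, 3, 6, 4, 6, 2, 4, 3, 5, 3, 4, 2, 5] A.one = true := by decide +kernel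

theorem r29 : PA.isW A TT [3, 3, 1, 5, 0, 4, 1, 4, 0, 6, 4, 2, 0, 3, 6, 4, 6, 0, 0, 3, 3, 1, 5, 0, 4, 1, 4, 0, 6, 4, 2, 0, 3, 6, 4, 6, 2, 4, 3, 1, 5, 0, 5, 1, 4, 2, 1, 3, 3, 1] A.one = true := by decide +kernel

theorem r30 : PA.isW A TT [7, 5, 7, 2, 1, 3, 5, 7, 1, 5, 0, 5, 1, 4, 0, 2, 1, 5, 0, 4, 1, 4, 0, 6, 4, 2, 0, 3, 6, 4, 6, 2, 4, 4, 3, 3, 4, 2, 5] A.one = true := by decide +kernel

theorem r31 : PA.isW A TT [3, 3, 1, 5, 0, 4, 1, 4, 0, 6, 4, 2, 0, 3, 6, 4, 6, 0, 2, 2, 0, 3, 0, 3, 3, 1, 5, 0, 4, 1, 4, 0, 6, 4, 2, 0, 3, 6, 4, 6, 2, 4, 3, 1, 5, 0, 5, 1, 4, 1] A.one = true := by decide +kernel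

theorem r32 : PA.isW A TT [3, 3, 1, 5, 0, 4, 1, 4, 0, 6, 4, 2, 0, 3, 6, 4, 6, 1, 4, 0, 3, 3, 1, 5, 0, 4, 1, 4, 0, 6, 4, 2, 0, 3, 6, 4, 6, 1, 5, 0, 3, 3, 1, 5, 0, 4, 1, 4, 0, 6, 4, 2, 0, 3, 6, 4, 6, 1, 4, 0, 2, 5, 3, 0, 3, 4, 2, 0, 0, 0] A.one = true := by decide +kernel

theorem r33 : PA.isW A TT [5, 7, 2, 1, 3, 5, 7, 1, 5, 0, 5, 1, 4, 0, 2, 1, 4, 7, 5, 7, 2, 1, 3, 5, 7, 1, 5, 0, 5, 1, 4, 0, 2, 2, 1, 7, 5, 7, 2, 1, 3, 5, 7, 1, 5, 0, 5, 1, 4, 0, 2, 2, 1, 5, 1, 5, 0, 4, 1, 4, 0, 2, 4, 3, 4, 2, 0, 3, 3, 1] A.one = true := by decide +kernel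

theorem r34 : PA.isW A TT [6, 6, 1, 1, 1, 1] A.one = true := by decide +kernel

theorem r35 : PA.isW A TT [3, 7, 2, 6] A.one = true := by decide +kernel

theorem r36 : PA.isW A TT [7, 0, 6, 1, 1, 1] A.one = true := by decide +kernel

theorem r37 : PA.isW A TT [6, 5, 1, 5, 0, 4, 1, 4, 0, 6, 5, 1, 5, 0, 4, 1, 4, 0, 6, 5, 1, 5, 0, 4, 1, 4, 0, 6, 5, 1, 5, 0, 4, 1, 4, 0, 6, 5, 1, 5, 0, 4, 1, 4, 0] A.one = true := by decide +kernel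

theorem r38 : PA.isW A TT [6, 5, 1, 5, 0, 4, 1, 4, 0, 6, 1, 5, 0, 5, 1, 4, 0, 4, 6, 5, 1, 5, 0, 4, 1, 4, 1] A.one = true := by decide +kernel

theorem r39 : PA.isW A TT [9, 4, 8, 1, 3, 4, 1, 2, 4, 3, 0, 2, 0] A.one = true := by decide +kernel

theorem r40 : PA.isW A TT [9, 1, 4, 0, 8, 3, 5, 3, 0, 5, 1, 2, 2] A.one = true := by decide +kernel

theorem r41 : PA.isW A TT [9, 3, 4, 2, 8, 1, 3, 1, 5, 0, 2, 0] A.one = true := by decide +kernel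

theorem r42 : PA.isW A TT [9, 2, 4, 3, 8, 3, 1, 2, 5, 3, 0, 2] A.one = true := by decide +kernel

theorem r43 : PA.isW A TT [9, 5, 1, 5, 0, 4, 1, 4, 0, 8, 4, 2, 2, 5, 1, 3, 5, 2, 0, 3, 3] A.one = true := by decide +kernel

theorem r44 : PA.isW A TT [9, 0, 8, 0, 0, 0] A.one = true := by decide +kernel

theorem r45 : PA.isW A TT [9, 2, 0, 3, 8, 0, 0, 2, 0, 3] A.one = true := by decide +kernel

theorem r46 : PA.isW A TT [9, 2, 2, 0, 3, 3, 8, 0, 2, 2, 1, 3, 3, 1] A.one = true := by decide +kernel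

theorem r47 : PA.isW A TT [8, 8, 1, 1] A.one = true := by decide +kernel

theorem r48 : PA.isW A TT [3, 3, 0, 2, 2, 8, 3, 3, 0, 2, 2, 8, 3, 3, 0, 2, 2, 8, 0, 0] A.one = true := by decide +kernel

theorem r49 : PA.isW A TT [5, 7, 1, 5, 1, 2, 5, 7, 8, 1, 6, 3, 5, 1, 2, 5, 7, 2, 5, 3, 1, 5, 0, 3, 0, 2, 0, 3, 8, 1, 5, 7, 0, 5, 3, 0, 5, 7, 1, 5, 0, 4, 3, 3, 5, 3, 1, 3, 3, 8] A.one = true := by decide +kernel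

theorem r50 : PA.isW A TT [9, 7, 9, 1, 5, 7, 2, 1, 3, 5, 7, 2, 1, 3, 5, 3, 0, 3, 3, 0, 3, 8, 6, 8, 0, 2, 1, 2, 2, 1, 2, 2, 5, 0, 4, 2, 4, 3, 6, 4, 3, 3, 6, 4, 2, 4] A.one = true := by decide +kernel

theorem r51 : PA.isW A TT [8, 2, 0, 3, 1, 3, 3, 1, 3, 4, 2, 2, 4, 2, 6, 4, 3, 3, 6, 4, 2, 4, 8, 0, 3, 3, 1, 4, 2, 5, 2, 1, 5, 5, 6, 4, 0, 4, 1, 4, 3, 7, 9, 5, 3, 5, 7, 2, 2, 5, 7, 3, 5, 3, 3, 5, 2, 0, 2, 2, 0, 2, 1, 3, 9, 7, 0, 4, 2, 4, 1, 5, 7, 0, 3, 1, 4, 1, 3, 3, 1, 2, 1] A.one = true := by decide +kernel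

theorem r52 : PA.isW A TT [8, 2, 6, 8, 2, 2, 1, 3, 1, 2, 2, 5, 0, 4, 1, 5, 6, 5, 2, 2, 1, 4, 2, 9, 7, 3, 9, 5, 1, 4, 2, 5, 7, 4, 1, 4, 0, 4, 3, 1, 3, 1, 2] A.one = true := by decide +kernel

end Cfsg.Agent.Spor.LyM
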